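import Groth.Agent.ModSt.K927.BcMain
import Groth.Agent.ModSt.K927.ArtinRS
import Groth.Agent.ModSt.K927.ArtinLP
import Groth.Agent.ModSt.K927.CohStack
import Groth.Agent.ModSt.K41.CohSE
import Groth.Agent.ModSt.K41.CohFA
import Groth.Agent.ModSt.K41.CohSM
import Groth.Agent.ModSt.K599.ArtinPR
import Groth.Agent.AlgSp.K607.ArtinMain

/-!
# The stack of coherent modules of a proper morphism is algebraic: assembly
-/

set_option autoImplicit false
universe u

open CategoryTheory CategoryTheory.Limits AlgebraicGeometry Opposite ModSt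

noncomputable section

namespace K328.CohAlg

/-- Artin's axioms for `Coh f`, `f` proper of finite presentation over a ring. -/
theorem axioms {Λ : Type u} [CommRing Λ] [Algebra.FiniteType ℤ Λ] {Y : Scheme.{u}}
    (h : Y ⟶ Spec (CommRingCat.of Λ)) [IsProper h] [LocallyOfFinitePresentation h] :
    K607.Artin.Axioms (Coh h) where
  isStack := K927.ModSt.isStack_coh h
  lp := K927.ModSt.artin_lp h
  se := K41.CohSE.se h
  rsObj := K927.ModSt.artin_rsObj h
  rsHom := K927.ModSt.artin_rsHom h
  fa := K41.CohFA.fa h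
  sm := K41.CohSM.sm h
  pr := K599.ArtinPR.artin_pr h

theorem good (Λ : Type u) [CommRing Λ] [Algebra.FiniteType ℤ Λ] {Y : Scheme.{u}}
    (h : Y ⟶ Spec (CommRingCat.of Λ)) [IsProper h] [LocallyOfFinitePresentation h] :
    K927.ModSt.Good h := by
  refine ⟨K607.Artin.isAlgStack₀ (axioms h), fun x y => ?_⟩
  obtain ⟨w, p, q, hw, -⟩ := K599.ArtinPR.exists_prod_coh h x y
  exact ⟨w, p, q, hw⟩

/-- The stack of coherent modules of a proper morphism, locally of finite presentation, is algebraic. -/
theorem isAlgStack_coh {X S : Scheme.{u}} (f : X ⟶ S) [IsProper f] [LocallyOfFinitePresentation f] :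
    AlgSt.IsAlgStack Scheme.fppfPrecoverage (Coh f) :=
  K927.ModSt.isAlgStack_coh_of_fg (fun Λ _ _ _ h _ _ => good Λ h) f

end K328.CohAlg
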